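import Groth.Prelude.Def_BlowUp2
import Groth.Agent.RegLoc6.Basic
import Groth.Agent.RegLoc6.RegEtale
import Groth.Agent.CplFib6.QuotReg
import Groth.Agent.GeomReg.Basic
import Mathlib.RingTheory.DedekindDomain.Basic
import Mathlib.Algebra.Polynomial.Div
import Mathlib.RingTheory.Localization.Ideal

/-!
# The chart `A[t/s]` of the blow-up of the ideal `(s, t)`

For a domain `A`, `s` and `t` with `s` not dividing into multiples of `t`, the affine blow-up algebra is
`A[X]/(sX - t)`; for a regular system of parameters it is regular.
-/

set_option autoImplicit false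
set_option linter.style.haveILetI false
set_option backward.isDefEq.respectTransparency false
set_option backward.isDefEq.respectTransparency.types false

universe u

open Polynomial

namespace Groth.Agent.ResolveLib.BlowTwo

variable {A : Type u} [CommRing A]

/-- The element `t/s` of the chart. -/
noncomputable def slope (I : Ideal A) (s : A) {t : A} (ht : t ∈ I) : BlowUp.affineAlgebra A I s :=
  ⟨IsLocalization.mk' (Localization.Away s) t ⟨s, Submonoid.mem_powers s⟩,
    Algebra.subset_adjoin ⟨t, ht, rfl⟩⟩

theorem algebraMap_mul_slope (I : Ideal A) (s : A) {t : A} (ht : t ∈ I) :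
    algebraMap A (BlowUp.affineAlgebra A I s) s * slope I s ht =
      algebraMap A (BlowUp.affineAlgebra A I s) t :=
  Subtype.ext (IsLocalization.mk'_spec' (Localization.Away s) t ⟨s, Submonoid.mem_powers s⟩)

/-- The map `X ↦ t/s`. -/
noncomputable def present (I : Ideal A) (s : A) {t : A} (ht : t ∈ I) :
    A[X] →ₐ[A] BlowUp.affineAlgebra A I s :=
  Polynomial.aeval (slope I s ht)

theorem present_C (I : Ideal A) (s : A) {t : A} (ht : t ∈ I) (a : A) :
    present I s ht (C a) = algebraMap A _ a :=
  Polynomial.aeval_C _ a

theorem present_X (I : Ideal A) (s : A) {t : A} (ht : t ∈ I) :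
    present I s ht X = slope I s ht :=
  Polynomial.aeval_X _

theorem present_surjective {I : Ideal A} {s t : A} (hI : I = Ideal.span {s, t}) (ht : t ∈ I) :
    Function.Surjective (present I s ht) := by
  rintro ⟨q, hq⟩
  suffices ∃ P, (present I s ht P : Localization.Away s) = q by
    obtain ⟨P, hP⟩ := this
    exact ⟨P, Subtype.ext hP⟩
  change q ∈ Algebra.adjoin _ _ at hq
  induction hq using Algebra.adjoin_induction with
  | mem q hq =>
    obtain ⟨x, hx, rfl⟩ := hq
    obtain ⟨α, β, rfl⟩ := Ideal.mem_span_pair.1 (hI ▸ hx)
    refine ⟨C α + C β * X, ?_⟩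
    rw [map_add, map_mul, present_C, present_C, present_X, Subalgebra.coe_add, Subalgebra.coe_mul,
      eq_comm, IsLocalization.mk'_eq_iff_eq_mul]
    show _ = (algebraMap A (Localization.Away s) α + algebraMap A _ β *
      IsLocalization.mk' _ t ⟨s, Submonoid.mem_powers s⟩) * algebraMap A _ s
    rw [add_mul, mul_assoc, IsLocalization.mk'_spec, map_add, map_mul, map_mul]
  | algebraMap r => exact ⟨C r, by rw [present_C]; rfl⟩
  | add p q _ _ hp hq =>
    obtain ⟨P, hP⟩ := hp; obtain ⟨Q, hQ⟩ := hq
    exact ⟨P + Q, by rw [map_add, Subalgebra.coe_add, hP, hQ]⟩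
  | mul p q _ _ hp hq =>
    obtain ⟨P, hP⟩ := hp; obtain ⟨Q, hQ⟩ := hq
    exact ⟨P * Q, by rw [map_mul, Subalgebra.coe_mul, hP, hQ]⟩

/-- Regularity at a prime containing an element with regular quotient. -/
theorem isRegularLocalRing_of_quotient {B : Type u} [CommRing B] [IsNoetherianRing B] [IsDomain B]
    {σ : B} (hσ : σ ≠ 0) [IsRegularRing (B ⧸ Ideal.span {σ})] (q : Ideal B) [q.IsPrime] (hσq : σ ∈ q) :
    IsRegularLocalRing (Localization.AtPrime q) := by
  let R := Localization.AtPrime q
  let x : R := algebraMap B R σ
  have hx : x ∈ IsLocalRing.maximalIdeal R :=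
    (IsLocalization.AtPrime.to_map_mem_maximal_iff R q σ).2 hσq
  have hreg : IsSMulRegular R x := by
    have hx0 : x ≠ 0 := fun h => hσ
      (IsLocalization.injective R q.primeCompl_le_nonZeroDivisors (h.trans (map_zero _).symm))
    haveI : IsDomain R :=
      IsLocalization.isDomain_of_le_nonZeroDivisors (R := B) R q.primeCompl_le_nonZeroDivisors
    exact fun a b h => mul_left_cancel₀ hx0 h
  have hIP : (Ideal.span {σ}).map (algebraMap B R) = Ideal.span {x} := by
    rw [Ideal.map_span, Set.image_singleton]
  haveI : IsRegularRing (R ⧸ (Ideal.span {σ}).map (algebraMap B R)) :=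
    GeomReg.isRegularRing_of_isLocalization
      (Algebra.algebraMapSubmonoid (B ⧸ Ideal.span {σ}) q.primeCompl) _
  haveI : IsRegularRing (R ⧸ Ideal.span {x}) :=
    IsRegularRing.of_ringEquiv (Ideal.quotEquivOfEq hIP)
  haveI : IsLocalRing (R ⧸ Ideal.span {x}) := RegLoc6.isLocalRing_quot hx
  haveI : IsRegularLocalRing (R ⧸ Ideal.span {x}) :=
    IsRegularLocalRing.of_ringEquiv
      (R := Localization.AtPrime (IsLocalRing.maximalIdeal (R ⧸ Ideal.span {x})))
      (IsLocalization.atUnits (R ⧸ Ideal.span {x})
        (S := Localization.AtPrime (IsLocalRing.maximalIdeal (R ⧸ Ideal.span {x})))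
        (IsLocalRing.maximalIdeal (R ⧸ Ideal.span {x})).primeCompl
        (fun a ha => IsLocalRing.notMem_maximalIdeal.1 ha)).toRingEquiv.symm
  exact RegLoc6.of_quotient hx hreg

variable [IsDomain A]

/-- The kernel of the presentation is generated by `sX - t`. -/
theorem present_eq_zero_iff (I : Ideal A) {s t : A} (hs : s ≠ 0) (ht : t ∈ I)
    (hst : ∀ c, s ∣ c * t → s ∣ c) (P : A[X]) :
    present I s ht P = 0 ↔ C s * X - C t ∣ P := by
  refine ⟨fun h => ?_, ?_⟩
  · induction hn : P.natDegree using Nat.strong_induction_on generalizing P with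
    | _ n ih =>
      rcases Nat.eq_zero_or_pos n with rfl | hpos
      · rw [eq_C_of_natDegree_eq_zero hn, present_C] at h
        have h0 : algebraMap A (Localization.Away s) (P.coeff 0) = 0 := congrArg Subtype.val h
        rw [← map_zero (algebraMap A (Localization.Away s))] at h0
        rw [eq_C_of_natDegree_eq_zero hn,
          IsLocalization.injective (Localization.Away s) (powers_le_nonZeroDivisors_of_noZeroDivisors hs) h0,
          map_zero]
        exact dvd_zero _
      · -- `s` divides the leading coefficient
        let B := BlowUp.affineAlgebra A I s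
        let σ := algebraMap A B s
        have hsum : ∑ i ∈ Finset.range (n + 1),
            algebraMap A B (P.coeff i * t ^ i * s ^ (n - i)) = 0 := by
          have h1 : σ ^ n * present I s ht P = 0 := by rw [h, mul_zero]
          rw [← h1, present, aeval_eq_sum_range, hn, Finset.mul_sum]
          refine Finset.sum_congr rfl fun i hi => ?_
          have hi' : i ≤ n := Nat.lt_succ_iff.1 (Finset.mem_range.1 hi)
          rw [Algebra.smul_def, map_mul, map_mul, map_pow, map_pow, ← algebraMap_mul_slope I s ht]
          conv_rhs => rw [show σ ^ n = σ ^ i * σ ^ (n - i) by rw [← pow_add, Nat.add_sub_cancel' hi']]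
          ring
        rw [← map_sum] at hsum
        have hzero : ∑ i ∈ Finset.range (n + 1), P.coeff i * t ^ i * s ^ (n - i) = 0 :=
          IsLocalization.injective (Localization.Away s) (powers_le_nonZeroDivisors_of_noZeroDivisors hs)
            ((congrArg Subtype.val hsum).trans (map_zero _).symm)
        have hdvd : s ∣ P.coeff n * t ^ n := by
          rw [Finset.sum_range_succ, Nat.sub_self, pow_zero, mul_one] at hzero
          rw [eq_neg_of_add_eq_zero_right hzero, dvd_neg]
          exact Finset.dvd_sum fun i hi => (dvd_pow_self s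
            (Nat.sub_ne_zero_of_lt (Finset.mem_range.1 hi))).mul_left _
        have hdn : s ∣ P.coeff n := by
          clear hzero hsum hn
          revert hdvd
          generalize P.coeff n = c
          induction n generalizing c with
          | zero => simp at hpos
          | succ k ihk =>
            intro hc
            rw [pow_succ, ← mul_assoc] at hc
            rcases k with _ | k
            · simpa using hst _ hc
            · exact ihk (fun m hm => ih m (hm.trans (Nat.lt_succ_self _))) k.succ_pos c (hst _ hc)
        obtain ⟨d, hd⟩ := hdn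
        set Q := P - C d * X ^ (n - 1) * (C s * X - C t) with hQ
        have hX : X ^ (n - 1) * X = (X : A[X]) ^ n := by rw [← pow_succ, Nat.sub_add_cancel hpos]
        have hQlt : Q.natDegree < n := by
          refine Nat.lt_of_le_pred hpos (natDegree_le_iff_coeff_eq_zero.2 fun N hN => ?_)
          have hQ' : Q = P - C (d * s) * X ^ n + C (d * t) * X ^ (n - 1) := by
            rw [hQ, C_mul, C_mul, ← hX]; ring
          rw [hQ', coeff_add, coeff_sub, coeff_C_mul_X_pow, coeff_C_mul_X_pow,
            if_neg (show N ≠ n - 1 by rw [Nat.pred_eq_sub_one] at hN; omega), add_zero]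
          split_ifs with he
          · rw [he, hd]; ring
          · rw [sub_zero, coeff_eq_zero_of_natDegree_lt]
            rw [hn]; rw [Nat.pred_eq_sub_one] at hN; omega
        have hQ0 : present I s ht Q = 0 := by
          rw [hQ, map_sub, h, map_mul, map_sub, map_mul, map_mul, present_C, present_C, present_X,
            present_C, algebraMap_mul_slope, sub_self, mul_zero, sub_self]
        obtain ⟨R, hR⟩ := ih _ hQlt Q hQ0 rfl
        exact ⟨R + C d * X ^ (n - 1), by
          rw [mul_add, ← hR, hQ]; ring⟩
  · rintro ⟨R, rfl⟩
    rw [map_mul, map_sub, map_mul, present_C, present_C, present_X, algebraMap_mul_slope, sub_self,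
      zero_mul]

/-- The affine blow-up algebra of a maximal ideal generated by a regular system of two parameters is
regular. -/
theorem isRegularRing_affineAlgebra [IsRegularLocalRing A] {s t : A} (hs : s ≠ 0)
    (hI : IsLocalRing.maximalIdeal A = Ideal.span {s, t}) (ht : t ∈ IsLocalRing.maximalIdeal A)
    (hst : ∀ c, s ∣ c * t → s ∣ c) :
    IsRegularRing (BlowUp.affineAlgebra A (IsLocalRing.maximalIdeal A) s) := by
  let 𝔪 := IsLocalRing.maximalIdeal A
  let B := BlowUp.affineAlgebra A 𝔪 s
  let π : A[X] →+* B := (present 𝔪 s ht).toRingHom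
  have hπ : Function.Surjective π := present_surjective hI ht
  haveI : IsNoetherianRing B := isNoetherianRing_of_surjective A[X] B π hπ
  haveI : IsDomain (Localization.Away s) := IsLocalization.isDomain_of_le_nonZeroDivisors (R := A) _
    (powers_le_nonZeroDivisors_of_noZeroDivisors hs)
  haveI : IsDomain B := inferInstance
  let σ : B := algebraMap A B s
  have hσ : σ ≠ 0 := fun h => hs <| IsLocalization.injective (Localization.Away s)
    (powers_le_nonZeroDivisors_of_noZeroDivisors hs) ((congrArg Subtype.val h).trans (map_zero _).symm)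
  rw [isRegularRing_iff]
  intro q _
  by_cases hσq : σ ∈ q
  · -- modulo `s` the chart is a polynomial ring over a field
    let ρ : A[X] →+* (IsLocalRing.ResidueField A)[X] := Polynomial.mapRingHom (IsLocalRing.residue A)
    have hρ : Function.Surjective ρ := Polynomial.map_surjective _ IsLocalRing.residue_surjective
    let ψ : A[X] →+* B ⧸ Ideal.span {σ} := (Ideal.Quotient.mk _).comp π
    have hker : RingHom.ker ψ = RingHom.ker ρ := by
      have hρC : ∀ a ∈ 𝔪, ρ (C a) = 0 := fun a ha => by
        show Polynomial.map _ (C a) = 0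
        rw [map_C, (IsLocalRing.residue_eq_zero_iff a).2 ha, map_zero]
      have hψC : ∀ a ∈ 𝔪, ψ (C a) = 0 := fun a ha => by
        have ha' : a ∈ Ideal.span {s, t} := by rw [← hI]; exact ha
        obtain ⟨α, β, rfl⟩ := Ideal.mem_span_pair.1 ha'
        refine Ideal.Quotient.eq_zero_iff_mem.2 (Ideal.mem_span_singleton.2 ⟨algebraMap A B α + algebraMap A B β * slope 𝔪 s ht, ?_⟩)
        show present 𝔪 s ht _ = _
        rw [present_C, map_add, map_mul, map_mul, ← algebraMap_mul_slope 𝔪 s ht]
        ring
      refine le_antisymm (fun P hP => ?_) (fun P hP => ?_)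
      · rw [RingHom.mem_ker, RingHom.comp_apply, Ideal.Quotient.eq_zero_iff_mem,
          Ideal.mem_span_singleton] at hP
        obtain ⟨b, hb⟩ := hP
        obtain ⟨R, rfl⟩ := hπ b
        have h0 : present 𝔪 s ht (P - C s * R) = 0 := by
          rw [map_sub, map_mul, present_C]
          exact sub_eq_zero.2 hb
        obtain ⟨R', hR'⟩ := (present_eq_zero_iff 𝔪 hs ht hst _).1 h0
        have hP' : P = C s * R + (C s * X - C t) * R' := by rw [← hR']; ring
        have hsm : s ∈ 𝔪 := by
          show s ∈ IsLocalRing.maximalIdeal A
          rw [hI]; exact Ideal.subset_span (by simp)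
        rw [RingHom.mem_ker, hP', map_add, map_mul, map_mul, map_sub, map_mul, hρC s hsm, hρC t ht]
        simp
      · rw [RingHom.mem_ker] at hP ⊢
        have hcoef : ∀ i, P.coeff i ∈ 𝔪 := fun i => by
          have := congrArg (fun Q => Polynomial.coeff Q i) hP
          exact (IsLocalRing.residue_eq_zero_iff _).1 (by simpa [ρ, coeff_map] using this)
        rw [P.as_sum_support_C_mul_X_pow, map_sum]
        exact Finset.sum_eq_zero fun i _ => by rw [map_mul, hψC _ (hcoef i), zero_mul]
    haveI : IsRegularRing (B ⧸ Ideal.span {σ}) :=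
      IsRegularRing.of_ringEquiv
        (((RingHom.quotientKerEquivOfSurjective hρ).symm.trans (Ideal.quotEquivOfEq hker.symm)).trans
          (RingHom.quotientKerEquivOfSurjective (Ideal.Quotient.mk_surjective.comp hπ)))
    exact isRegularLocalRing_of_quotient hσ q hσq
  · haveI : IsRegularRing A := CplFib6.isRegularRing_of_local A
    haveI : IsRegularRing (Localization.Away s) :=
      GeomReg.isRegularRing_of_isLocalization (Submonoid.powers s) _
    haveI : IsLocalization.Away σ (Localization.Away s) := by
      refine IsLocalization.Away.mk _ (IsLocalization.Away.algebraMap_isUnit s) (fun z => ?_) fun a b h => ?_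
      · obtain ⟨n, a, ha⟩ := IsLocalization.Away.surj s z
        exact ⟨n, algebraMap A B a, ha⟩
      · exact ⟨0, by simpa using (Subtype.ext h : a = b)⟩
    exact GeomReg.isRegularLocalRing_of_away σ (Localization.Away s) q hσq

end Groth.Agent.ResolveLib.BlowTwo
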