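import Groth.Agent.ResolveLib.BlowTwo.Global
import Groth.Agent.ResolveLib.TwoCover
import Groth.Agent.ResolveLib.GGSpan
import Groth.Agent.QCoh.Bound
import Groth.Agent.QCoh.Ab.MV
import Groth.Agent.AModX.Res
import Groth.Prelude.Def_Curv2

/-!
# Cohomology of the blow-up of a two-dimensional regular local ring in its closed point
-/

set_option autoImplicit false
set_option backward.isDefEq.respectTransparency false
set_option backward.isDefEq.respectTransparency.types false
set_option linter.style.haveILetI false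

universe u

open CategoryTheory AlgebraicGeometry TopologicalSpace Polynomial Opposite
open Groth.Agent.AModX (res resR res_smul res_res resR_resR)

namespace Groth.Agent.ResolveLib.BlowTwo

open Groth.Agent

variable {A : Type u} [CommRing A] {I : Ideal A} {X : Scheme.{u}} {b : X ⟶ Spec (CommRingCat.of A)}

/-- Restriction commutes with the structure maps. -/
theorem resR_strHom (b : X ⟶ Spec (CommRingCat.of A)) {V W : X.Opens} (h : W ≤ V) (a : A) :
    resR h (BlowUpLib.strHom b V a) = BlowUpLib.strHom b W a := by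
  show X.presheaf.map (homOfLE h).op (b.appLE ⊤ V le_top _) = b.appLE ⊤ W le_top _
  rw [← ConcreteCategory.comp_apply, Scheme.Hom.appLE_map]

/-- The coordinate data of one chart. -/
theorem chart_data {s : A} (φ : Spec (CommRingCat.of (BlowUp.affineAlgebra A I s)) ⟶ X)
    [IsOpenImmersion φ]
    (hφ : φ ≫ b = Spec.map (CommRingCat.ofHom (algebraMap A (BlowUp.affineAlgebra A I s)))) :
    ∃ e : Γ(X, φ ''ᵁ ⊤) ≃+* BlowUp.affineAlgebra A I s,
      (∀ a, e (BlowUpLib.strHom b (φ ''ᵁ ⊤) a) = algebraMap A _ a) ∧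
      ∀ σ, X.basicOpen (e.symm σ) = φ ''ᵁ PrimeSpectrum.basicOpen σ := by
  let i := φ.appIso ⊤ ≪≫ Scheme.ΓSpecIso (CommRingCat.of (BlowUp.affineAlgebra A I s))
  refine ⟨i.commRingCatIsoToRingEquiv, fun a => ?_, fun σ => ?_⟩
  · show ((Scheme.ΓSpecIso (CommRingCat.of A)).inv ≫ b.appLE ⊤ (φ ''ᵁ ⊤) le_top ≫
      (φ.appIso ⊤).hom ≫ (Scheme.ΓSpecIso (CommRingCat.of (BlowUp.affineAlgebra A I s))).hom) a = _
    rw [Scheme.Hom.appIso_hom', Scheme.Hom.appLE_comp_appLE_assoc]
    simp_rw [hφ]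
    rw [show Scheme.Hom.appLE (Spec.map (CommRingCat.ofHom (algebraMap A (BlowUp.affineAlgebra A I s)))) ⊤ ⊤ le_top =
        Scheme.Hom.appTop (Spec.map (CommRingCat.ofHom (algebraMap A (BlowUp.affineAlgebra A I s)))) from
      Scheme.Hom.appLE_eq_app _, ← Scheme.ΓSpecIso_inv_naturality_assoc, Iso.inv_hom_id]
    rfl
  · show X.basicOpen ((φ.appIso ⊤).inv ((Scheme.ΓSpecIso _).inv σ)) = _
    rw [← Scheme.image_basicOpen φ]
    exact congrArg (φ ''ᵁ ·) (basicOpen_eq_of_affine (R := CommRingCat.of (BlowUp.affineAlgebra A I s)) σ)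

/-- The coordinates of one chart of the blow-up in two generators. -/
theorem exists_coord {s t : A} (hI : I = Ideal.span {s, t}) (ht : t ∈ I)
    (φ : Spec (CommRingCat.of (BlowUp.affineAlgebra A I s)) ⟶ X) [IsOpenImmersion φ]
    (hφ : φ ≫ b = Spec.map (CommRingCat.ofHom (algebraMap A (BlowUp.affineAlgebra A I s)))) :
    ∃ S : Γ(X, φ ''ᵁ ⊤),
      BlowUpLib.strHom b _ s * S = BlowUpLib.strHom b _ t ∧
      (∀ y, ∃ P : A[X], P.eval₂ (BlowUpLib.strHom b _) S = y) ∧
      X.basicOpen S = φ ''ᵁ PrimeSpectrum.basicOpen (slope I s ht) := by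
  obtain ⟨e, he, hopen⟩ := chart_data φ hφ
  refine ⟨e.symm (slope I s ht), ?_, fun y => ?_, hopen _⟩
  · apply e.injective
    rw [map_mul, e.apply_symm_apply, he, he, algebraMap_mul_slope]
  · obtain ⟨P, hP⟩ := present_surjective hI ht (e y)
    refine ⟨P, e.injective ?_⟩
    rw [show e (P.eval₂ _ _) = e.toRingHom (P.eval₂ _ _) from rfl, Polynomial.hom_eval₂, ← hP]
    show _ = Polynomial.aeval (slope I s ht) P
    rw [Polynomial.aeval_def]
    refine congrArg₂ (fun f x => P.eval₂ f x) (RingHom.ext he) (e.apply_symm_apply _)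

/-- Every function on the overlap of the two charts is a difference of functions on the charts. -/
theorem decompose [IsIntegral X] {U V : X.Opens} (hU : IsAffineOpen U) {s t : A}
    (S : Γ(X, U)) (T : Γ(X, V))
    (hS : BlowUpLib.strHom b U s * S = BlowUpLib.strHom b U t)
    (hT : BlowUpLib.strHom b V t * T = BlowUpLib.strHom b V s)
    (hgen : ∀ y, ∃ P : A[X], P.eval₂ (BlowUpLib.strHom b U) S = y)
    (hle : X.basicOpen S ≤ V) (hne : Nonempty (U ⊓ V : X.Opens))
    (hs : BlowUpLib.strHom b (U ⊓ V) s ≠ 0)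
    (r : Γ(X, U ⊓ V)) : ∃ (α : Γ(X, U)) (β : Γ(X, V)), resR inf_le_left α - resR inf_le_right β = r := by
  haveI := hne
  set S' := resR (inf_le_left : U ⊓ V ≤ U) S
  set T' := resR (inf_le_right : U ⊓ V ≤ V) T
  have hST : S' * T' = 1 := by
    have e1 : BlowUpLib.strHom b (U ⊓ V) s * S' = BlowUpLib.strHom b (U ⊓ V) t := by
      rw [← resR_strHom b inf_le_left, ← resR_strHom b inf_le_left, ← map_mul, hS]
    have e2 : BlowUpLib.strHom b (U ⊓ V) t * T' = BlowUpLib.strHom b (U ⊓ V) s := by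
      rw [← resR_strHom b inf_le_right, ← resR_strHom b inf_le_right, ← map_mul, hT]
    refine mul_left_cancel₀ hs ?_
    rw [← mul_assoc, e1, e2, mul_one]
  have hW : U ⊓ V = X.basicOpen S := by
    refine le_antisymm ?_ (le_inf (X.basicOpen_le S) hle)
    have h1 : X.basicOpen S' = U ⊓ V :=
      X.basicOpen_of_isUnit (IsUnit.of_mul_eq_one _ hST)
    calc U ⊓ V = X.basicOpen S' := h1.symm
      _ = (U ⊓ V) ⊓ X.basicOpen S := Scheme.basicOpen_res X S _
      _ ≤ _ := inf_le_right
  letI := (resR (inf_le_left : U ⊓ V ≤ U) : Γ(X, U) →+* Γ(X, U ⊓ V)).toAlgebra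
  haveI : IsLocalization.Away S Γ(X, U ⊓ V) := hU.isLocalization_of_eq_basicOpen S (homOfLE inf_le_left) hW
  obtain ⟨n, y, hy⟩ := IsLocalization.Away.surj S r
  change r * S' ^ n = resR inf_le_left y at hy
  have hr : r = resR inf_le_left y * T' ^ n := by
    rw [← hy, mul_assoc, ← mul_pow, hST, one_pow, mul_one]
  obtain ⟨P, rfl⟩ := hgen y
  subst hr
  clear hy
  induction P using Polynomial.induction_on' with
  | add p q hp hq =>
    obtain ⟨α, β, hp⟩ := hp
    obtain ⟨α', β', hq⟩ := hq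
    refine ⟨α + α', β + β', ?_⟩
    rw [Polynomial.eval₂_add, map_add, map_add, map_add, add_mul, ← hp, ← hq]
    abel
  | monomial k a =>
    rw [Polynomial.eval₂_monomial, map_mul, map_pow, resR_strHom]
    rcases le_total n k with h | h
    · refine ⟨BlowUpLib.strHom b U a * S ^ (k - n), 0, ?_⟩
      rw [map_zero, sub_zero, map_mul, map_pow, resR_strHom, mul_assoc]
      congr 1
      rw [show k = k - n + n from (Nat.sub_add_cancel h).symm, pow_add, mul_assoc, ← mul_pow, hST,
        one_pow, mul_one, Nat.add_sub_cancel]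
    · refine ⟨0, -(BlowUpLib.strHom b V a * T ^ (n - k)), ?_⟩
      rw [map_zero, zero_sub, map_neg, neg_neg, map_mul, map_pow, resR_strHom, mul_assoc]
      congr 1
      rw [show n = k + (n - k) from (Nat.add_sub_cancel' h).symm, pow_add, ← mul_assoc, ← mul_pow,
        hST, one_pow, one_mul, Nat.add_sub_cancel_left]

/-- The structure maps to nonempty opens of the blow-up are injective. -/
theorem strHom_ne_zero [IsDomain A] [IsIntegral X] {s : A} (hs : s ≠ 0)
    (φ : Spec (CommRingCat.of (BlowUp.affineAlgebra A I s)) ⟶ X) [IsOpenImmersion φ]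
    (hφ : φ ≫ b = Spec.map (CommRingCat.ofHom (algebraMap A (BlowUp.affineAlgebra A I s))))
    {W : X.Opens} (hW : Nonempty W) {a : A} (ha : a ≠ 0) : BlowUpLib.strHom b W a ≠ 0 := by
  haveI : IsDomain (Localization.Away s) := IsLocalization.isDomain_of_le_nonZeroDivisors (R := A) _
    (powers_le_nonZeroDivisors_of_noZeroDivisors hs)
  obtain ⟨e, he, -⟩ := chart_data φ hφ
  obtain ⟨⟨x, hx⟩⟩ := hW
  haveI : Nontrivial (BlowUp.affineAlgebra A I s) := inferInstance
  have hne : Nonempty (W ⊓ φ ''ᵁ ⊤ : X.Opens) := by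
    obtain ⟨z⟩ : Nonempty (Spec (CommRingCat.of (BlowUp.affineAlgebra A I s))) :=
      inferInstanceAs (Nonempty (PrimeSpectrum (BlowUp.affineAlgebra A I s)))
    obtain ⟨p, hp⟩ := nonempty_preirreducible_inter W.2 (φ ''ᵁ ⊤).2 ⟨x, hx⟩ ⟨φ z, z, trivial, rfl⟩
    exact ⟨⟨p, hp⟩⟩
  intro h0
  apply ha
  have h1 : BlowUpLib.strHom b (φ ''ᵁ ⊤) a = 0 := by
    apply AlgebraicGeometry.map_injective_of_isIntegral X (homOfLE (inf_le_right : W ⊓ φ ''ᵁ ⊤ ≤ φ ''ᵁ ⊤))
    show resR inf_le_right _ = resR inf_le_right (0 : Γ(X, φ ''ᵁ ⊤))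
    rw [resR_strHom, map_zero, ← resR_strHom b (inf_le_left : W ⊓ φ ''ᵁ ⊤ ≤ W), h0, map_zero]
  have h2 := he a
  rw [h1, map_zero] at h2
  exact IsLocalization.injective (Localization.Away s) (powers_le_nonZeroDivisors_of_noZeroDivisors hs)
    ((congrArg Subtype.val h2.symm).trans (map_zero _).symm)

/-- Decomposition of sections of a globally generated module. -/
theorem decompose_mod {U V : X.Opens} (hUV : IsAffineOpen (U ⊓ V)) {F : X.Modules}
    (hF : Coh.IsQCoh F) (hgg : Curv2.IsGloballyGenerated F)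
    (hr : ∀ r : Γ(X, U ⊓ V), ∃ (α : Γ(X, U)) (β : Γ(X, V)), resR inf_le_left α - resR inf_le_right β = r)
    (d : Γ(F, U ⊓ V)) :
    ∃ (a : Γ(F, U)) (c : Γ(F, V)), res F inf_le_left a - res F inf_le_right c = d := by
  have hd : d ∈ Submodule.span Γ(X, U ⊓ V)
      (Set.range fun t : Γ(F, ⊤) => res F (le_top : U ⊓ V ≤ ⊤) t) := by
    rw [span_res_eq_top hgg hF hUV]; trivial
  suffices h : ∀ r : Γ(X, U ⊓ V), ∃ (a : Γ(F, U)) (c : Γ(F, V)),
      res F inf_le_left a - res F inf_le_right c = r • d by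
    obtain ⟨a, c, h⟩ := h 1
    exact ⟨a, c, h.trans (one_smul _ _)⟩
  induction hd using Submodule.span_induction with
  | mem z hz =>
    obtain ⟨σ, rfl⟩ := hz
    intro r
    obtain ⟨α, β, rfl⟩ := hr r
    refine ⟨α • res F le_top σ, β • res F le_top σ, ?_⟩
    rw [res_smul, res_smul, res_res, res_res, sub_smul]
  | zero => exact fun r => ⟨0, 0, by simp⟩
  | add z z' _ _ h h' =>
    intro r
    obtain ⟨a, c, h⟩ := h r
    obtain ⟨a', c', h'⟩ := h' r
    exact ⟨a + a', c + c', by rw [map_add, map_add, smul_add, ← h, ← h']; abel⟩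
  | smul c z _ h =>
    intro r
    rw [smul_smul]
    exact h _

/-- The blow-up of a two-dimensional regular local ring in its closed point has two affine charts,
with affine intersection, whose overlap functions split. -/
theorem exists_split_cover [IsRegularLocalRing A] (hA : ringKrullDim A = 2)
    (hb : BlowUp.IsBlowUp b (BlowUpLib.centre (IsLocalRing.maximalIdeal A))) :
    X.IsSeparated ∧ ∃ U V : X.Opens, IsAffineOpen U ∧ IsAffineOpen V ∧ U ⊔ V = ⊤ ∧
      ∀ r : Γ(X, U ⊓ V), ∃ (α : Γ(X, U)) (β : Γ(X, V)), resR inf_le_left α - resR inf_le_right β = r := by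
  haveI := RegLoc6.isDomain_of_isRegularLocalRing A
  obtain ⟨s, t, hgen, hs, ht, -, -⟩ := exists_params A hA
  obtain ⟨c⟩ := nonempty_charts b hb hgen
  haveI := c.hφs; haveI := c.hφt
  have hsm : s ∈ IsLocalRing.maximalIdeal A := hgen ▸ Ideal.subset_span (by simp)
  have htm : t ∈ IsLocalRing.maximalIdeal A := hgen ▸ Ideal.subset_span (by simp)
  haveI := c.isIntegral hs ht htm
  haveI : IsProper b := BlowUpLib.isProper_of_isBlowUp _ hb fun W =>
    haveI := IsLocallyNoetherian.component_noetherian (X := Spec (CommRingCat.of A)) W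
    IsNoetherian.noetherian _
  haveI : X.IsSeparated := ⟨by rw [← Limits.terminal.comp_from b]; infer_instance⟩
  let U := c.φs ''ᵁ ⊤
  let V := c.φt ''ᵁ ⊤
  have hU : IsAffineOpen U := (isAffineOpen_top _).image_of_isOpenImmersion _
  have hV : IsAffineOpen V := (isAffineOpen_top _).image_of_isOpenImmersion _
  refine ⟨inferInstance, U, V, hU, hV, ?_, ?_⟩
  · show c.φs ''ᵁ ⊤ ⊔ c.φt ''ᵁ ⊤ = ⊤
    rw [Scheme.Hom.image_top_eq_opensRange, Scheme.Hom.image_top_eq_opensRange]
    exact c.cover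
  intro r
  obtain ⟨S, hS, hgenU, hopen⟩ := exists_coord hgen htm c.φs c.comp_s
  obtain ⟨T, hT, -, -⟩ := exists_coord (hgen.trans (by rw [Set.pair_comm])) hsm c.φt c.comp_t
  have hle : X.basicOpen S ≤ V := by
    rw [hopen]
    rintro _ ⟨z, hz, rfl⟩
    show c.φs z ∈ c.φt ''ᵁ ⊤
    rw [Scheme.Hom.image_top_eq_opensRange]
    exact c.overlap htm hz
  have hne : Nonempty (U ⊓ V : X.Opens) := by
    haveI : IsDomain (Localization.Away s) := IsLocalization.isDomain_of_le_nonZeroDivisors (R := A) _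
      (powers_le_nonZeroDivisors_of_noZeroDivisors hs)
    haveI : IsDomain (Localization.Away t) := IsLocalization.isDomain_of_le_nonZeroDivisors (R := A) _
      (powers_le_nonZeroDivisors_of_noZeroDivisors ht)
    obtain ⟨z⟩ := (inferInstance :
      Nonempty (PrimeSpectrum (BlowUp.affineAlgebra A (IsLocalRing.maximalIdeal A) s)))
    obtain ⟨w⟩ := (inferInstance :
      Nonempty (PrimeSpectrum (BlowUp.affineAlgebra A (IsLocalRing.maximalIdeal A) t)))
    obtain ⟨p, hp⟩ := nonempty_preirreducible_inter U.2 V.2 ⟨c.φs z, z, trivial, rfl⟩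
      ⟨c.φt w, w, trivial, rfl⟩
    exact ⟨⟨p, hp⟩⟩
  exact decompose hU S T hS hT hgenU hle hne (strHom_ne_zero hs c.φs c.comp_s hne hs) r

end Groth.Agent.ResolveLib.BlowTwo
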