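import Groth.Agent.ResolveLib.BlowTwo.Chart
import Groth.Agent.BlowUpLib.Glue
import Groth.Prelude.Def_CurvBase
import Mathlib.AlgebraicGeometry.FunctionField

/-!
# The blow-up of a two-dimensional regular local ring in its closed point

It is covered by the two charts `Spec A[t/s]` and `Spec A[s/t]`, is integral and regular.
-/

set_option autoImplicit false
set_option backward.isDefEq.respectTransparency false
set_option backward.isDefEq.respectTransparency.types false
set_option linter.style.haveILetI false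

universe u

open CategoryTheory AlgebraicGeometry TopologicalSpace

namespace Groth.Agent.ResolveLib.BlowTwo

/-- A regular system of parameters of length two. -/
theorem exists_params (A : Type u) [CommRing A] [IsRegularLocalRing A] (hA : ringKrullDim A = 2) :
    ∃ s t : A, IsLocalRing.maximalIdeal A = Ideal.span {s, t} ∧ s ≠ 0 ∧ t ≠ 0 ∧
      (∀ c, s ∣ c * t → s ∣ c) ∧ (∀ c, t ∣ c * s → t ∣ c) := by
  haveI := RegLoc6.isDomain_of_isRegularLocalRing A
  set 𝔪 := IsLocalRing.maximalIdeal A with h𝔪
  have h2 : 𝔪.spanFinrank = 2 := by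
    have h1 := (isRegularLocalRing_iff A).mp inferInstance
    rw [hA] at h1
    exact_mod_cast h1
  have hfg : 𝔪.FG := IsNoetherian.noetherian _
  obtain ⟨s, t, hst, he⟩ := Set.ncard_eq_two.1
    ((Submodule.FG.generators_ncard hfg).trans h2)
  have hgen : 𝔪 = Ideal.span {s, t} := by
    rw [← he]; exact (Submodule.span_generators 𝔪).symm
  refine ⟨s, t, hgen, ?_⟩
  -- each parameter is prime and does not divide the other
  have key : ∀ s t : A, 𝔪 = Ideal.span {s, t} → s ≠ 0 ∧ ∀ c, s ∣ c * t → s ∣ c := by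
    intro s t hgen
    have hsm : s ∈ 𝔪 := by rw [hgen]; exact Ideal.subset_span (by simp)
    have hone : ∀ g : A, 𝔪 ≠ Ideal.span {g} := fun g hg => by
      have : 𝔪.spanFinrank ≤ 1 := by
        rw [hg]
        exact (Submodule.spanFinrank_span_le_ncard_of_finite (Set.finite_singleton g)).trans
          (by rw [Set.ncard_singleton])
      omega
    have hs2 : s ∉ 𝔪 ^ 2 := fun hs2 => by
      refine hone t (le_antisymm ?_ ?_)
      · refine Submodule.le_of_le_smul_of_le_jacobson_bot (I := 𝔪) hfg ?_ ?_
        · rw [IsLocalRing.jacobson_eq_maximalIdeal ⊥ bot_ne_top]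
        · rw [hgen, Ideal.span_le]
          rintro x (rfl | rfl)
          · refine Submodule.mem_sup_right ?_
            rw [← hgen, smul_eq_mul, ← pow_two]; exact hs2
          · exact Submodule.mem_sup_left (Ideal.subset_span (by simp))
      · rw [Ideal.span_singleton_le_iff_mem, hgen]; exact Ideal.subset_span (by simp)
    have hs0 : s ≠ 0 := fun h => hs2 (h ▸ zero_mem _)
    haveI := RegLoc6.isLocalRing_quot hsm
    haveI := (RegLoc6.isRegularLocalRing_quot_and hsm hs2).1
    haveI := RegLoc6.isDomain_of_isRegularLocalRing (A ⧸ Ideal.span {s})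
    have hprime : (Ideal.span {s}).IsPrime := (Ideal.Quotient.isDomain_iff_prime _).1 inferInstance
    refine ⟨hs0, fun c hc => Ideal.mem_span_singleton.1 ?_⟩
    refine (hprime.mem_or_mem (Ideal.mem_span_singleton.2 hc)).resolve_right fun ht => ?_
    refine hone s (le_antisymm ?_ (by rwa [Ideal.span_singleton_le_iff_mem]))
    rw [hgen, Ideal.span_le]
    rintro x (rfl | rfl)
    · exact Ideal.mem_span_singleton_self _
    · exact ht
  have h1 := key s t hgen
  have h3 := key t s (by rw [hgen, Set.pair_comm])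
  exact ⟨h1.1, h3.1, h1.2, h3.2⟩

variable {A : Type u} [CommRing A] {I : Ideal A}

/-- The charts of two generators cover the blow-up. -/
theorem mem_chart_of_span {s t : A} (hI : I = Ideal.span {s, t}) (hs : s ∈ I) (ht : t ∈ I)
    (x : BlowUpLib.localBlowUp I) :
    x ∈ (BlowUpLib.chart I ⟨s, hs⟩).opensRange ∨ x ∈ (BlowUpLib.chart I ⟨t, ht⟩).opensRange := by
  obtain ⟨a, ha⟩ := BlowUpLib.chart_covers I x
  rw [BlowUpLib.opensRange_chart, BlowUpLib.opensRange_chart]
  rw [BlowUpLib.opensRange_chart] at ha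
  by_contra hcon
  rw [Proj.mem_basicOpen, Proj.mem_basicOpen, not_or, not_not, not_not] at hcon
  rw [Proj.mem_basicOpen] at ha
  obtain ⟨α, β, hab⟩ := Ideal.mem_span_pair.1 (show (a : A) ∈ Ideal.span {s, t} from hI ▸ a.2)
  refine ha ?_
  have he : BlowUpLib.gen I a = algebraMap A (reesAlgebra I) α * BlowUpLib.gen I ⟨s, hs⟩ +
      algebraMap A (reesAlgebra I) β * BlowUpLib.gen I ⟨t, ht⟩ := Subtype.ext (by
    show Polynomial.monomial 1 (a : A) = Polynomial.C α * Polynomial.monomial 1 s +
      Polynomial.C β * Polynomial.monomial 1 t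
    rw [Polynomial.C_mul_monomial, Polynomial.C_mul_monomial, ← map_add, hab])
  rw [he]
  exact add_mem (Ideal.mul_mem_left _ _ hcon.1) (Ideal.mul_mem_left _ _ hcon.2)

/-- Charts on an arbitrary blow-up of `Spec A` in `(s, t)`: the two affine opens cover. -/
structure Charts (b : (X : Scheme.{u}) × (X ⟶ Spec (CommRingCat.of A))) (I : Ideal A) (s t : A) where
  φs : Spec (CommRingCat.of (BlowUp.affineAlgebra A I s)) ⟶ b.1
  φt : Spec (CommRingCat.of (BlowUp.affineAlgebra A I t)) ⟶ b.1
  hφs : IsOpenImmersion φs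
  hφt : IsOpenImmersion φt
  comp_s : φs ≫ b.2 = Spec.map (CommRingCat.ofHom (algebraMap A (BlowUp.affineAlgebra A I s)))
  comp_t : φt ≫ b.2 = Spec.map (CommRingCat.ofHom (algebraMap A (BlowUp.affineAlgebra A I t)))
  cover : φs.opensRange ⊔ φt.opensRange = ⊤
  overlap : ∀ ht : t ∈ I, PrimeSpectrum.basicOpen (slope I s ht) ≤ φs ⁻¹ᵁ φt.opensRange

/-- Every blow-up of `Spec A` in `(s, t)` has the two standard charts. -/
theorem nonempty_charts {X : Scheme.{u}} (b : X ⟶ Spec (CommRingCat.of A))
    (hb : BlowUp.IsBlowUp b (BlowUpLib.centre I)) {s t : A} (hI : I = Ideal.span {s, t}) :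
    Nonempty (Charts ⟨X, b⟩ I s t) := by
  have hs : s ∈ I := hI ▸ Ideal.subset_span (by simp)
  have ht : t ∈ I := hI ▸ Ideal.subset_span (by simp)
  obtain ⟨e, he⟩ := BlowUpLib.exists_iso hb (BlowUpLib.isBlowUp_local I)
  refine ⟨{
    φs := BlowUpLib.chart I ⟨s, hs⟩ ≫ e.inv
    φt := BlowUpLib.chart I ⟨t, ht⟩ ≫ e.inv
    hφs := inferInstance
    hφt := inferInstance
    comp_s := by rw [Category.assoc, ← he, e.inv_hom_id_assoc, BlowUpLib.chart_toBase]
    comp_t := by rw [Category.assoc, ← he, e.inv_hom_id_assoc, BlowUpLib.chart_toBase]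
    cover := ?_
    overlap := ?_ }⟩
  · refine top_unique fun x _ => ?_
    rcases mem_chart_of_span hI hs ht (e.hom x) with ⟨z, hz⟩ | ⟨z, hz⟩
    · refine Or.inl ⟨z, ?_⟩
      show e.inv (BlowUpLib.chart I ⟨s, hs⟩ z) = x
      rw [hz, ← Scheme.Hom.comp_apply, e.hom_inv_id]; rfl
    · refine Or.inr ⟨z, ?_⟩
      show e.inv (BlowUpLib.chart I ⟨t, ht⟩ z) = x
      rw [hz, ← Scheme.Hom.comp_apply, e.hom_inv_id]; rfl
  · intro ht'
    refine (BlowUpLib.chart_overlap I ⟨t, ht⟩ ⟨s, hs⟩).trans ?_
    rintro z ⟨w, hw⟩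
    exact ⟨w, congrArg e.inv hw⟩

variable {X : Scheme.{u}} {b : X ⟶ Spec (CommRingCat.of A)} {s t : A}

/-- The blow-up of a domain in two nonzero elements is integral. -/
theorem Charts.isIntegral [IsDomain A] (c : Charts ⟨X, b⟩ I s t) (hs : s ≠ 0) (ht : t ≠ 0)
    (htI : t ∈ I) : IsIntegral X := by
  haveI := c.hφs; haveI := c.hφt
  have hdom : ∀ a : A, a ≠ 0 → IsDomain (BlowUp.affineAlgebra A I a) := fun a ha =>
    haveI : IsDomain (Localization.Away a) := IsLocalization.isDomain_of_le_nonZeroDivisors (R := A) _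
      (powers_le_nonZeroDivisors_of_noZeroDivisors ha)
    inferInstance
  haveI := hdom s hs; haveI := hdom t ht
  let Ts := Spec (CommRingCat.of (BlowUp.affineAlgebra A I s))
  let Tt := Spec (CommRingCat.of (BlowUp.affineAlgebra A I t))
  have hne : slope I s htI ≠ 0 := fun h => by
    have h' := algebraMap_mul_slope I s htI
    rw [h, mul_zero] at h'
    exact ht (IsLocalization.injective (Localization.Away s)
      (powers_le_nonZeroDivisors_of_noZeroDivisors hs)
      (((congrArg Subtype.val h').symm).trans (map_zero _).symm))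
  have hgs : c.φs (genericPoint Ts) ∈ c.φt.opensRange := c.overlap htI (show
    slope I s htI ∉ (genericPoint Ts).asIdeal by
      rw [show genericPoint Ts = (⟨⊥, Ideal.isPrime_bot⟩ : PrimeSpectrum _) from genericPoint_eq_bot_of_affine _]
      simpa using hne)
  obtain ⟨w, hw⟩ := hgs
  have hspec : ∀ x : X, c.φs (genericPoint Ts) ⤳ x := by
    intro x
    rcases (c.cover.ge (show x ∈ (⊤ : X.Opens) from trivial) : x ∈ c.φs.opensRange ⊔ c.φt.opensRange)
      with ⟨z, rfl⟩ | ⟨z, rfl⟩
    · exact (genericPoint_specializes z).map c.φs.continuous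
    · have h1 : c.φt (genericPoint Tt) ⤳ c.φs (genericPoint Ts) := by
        rw [← hw]; exact (genericPoint_specializes w).map c.φt.continuous
      obtain ⟨v, hv⟩ : c.φt (genericPoint Tt) ∈ c.φs.opensRange :=
        h1.mem_open c.φs.opensRange.isOpen ⟨_, rfl⟩
      have h2 : c.φs (genericPoint Ts) ⤳ c.φt (genericPoint Tt) := by
        rw [← hv]; exact (genericPoint_specializes v).map c.φs.continuous
      exact h2.trans ((genericPoint_specializes z).map c.φt.continuous)
  haveI : IrreducibleSpace X := by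
    rw [irreducibleSpace_def, Set.top_eq_univ]
    have : closure {c.φs (genericPoint Ts)} = (Set.univ : Set X) :=
      Set.eq_univ_of_forall fun x => (hspec x).mem_closure
    rw [← this]
    exact isIrreducible_singleton.closure
  haveI : ∀ x : X, _root_.IsReduced (X.presheaf.stalk x) := by
    intro x
    rcases (c.cover.ge (show x ∈ (⊤ : X.Opens) from trivial) : x ∈ c.φs.opensRange ⊔ c.φt.opensRange)
      with ⟨z, rfl⟩ | ⟨z, rfl⟩
    · exact isReduced_of_injective _ (asIso (c.φs.stalkMap z)).commRingCatIsoToRingEquiv.injective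
    · exact isReduced_of_injective _ (asIso (c.φt.stalkMap z)).commRingCatIsoToRingEquiv.injective
  haveI : IsReduced X := isReduced_of_isReduced_stalk X
  exact isIntegral_of_irreducibleSpace_of_isReduced X

/-- Stalks of the spectrum of a regular ring are regular. -/
theorem stalk_regular (B : Type u) [CommRing B] [IsRegularRing B] (z : Spec (CommRingCat.of B)) :
    IsRegularLocalRing ((Spec (CommRingCat.of B)).presheaf.stalk z) := by
  let p : PrimeSpectrum B := z
  exact IsRegularLocalRing.of_ringEquiv (R := Localization.AtPrime p.asIdeal)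
    (IsLocalization.algEquiv p.asIdeal.primeCompl (Localization.AtPrime p.asIdeal)
      ((Spec.structureSheaf B).presheaf.stalk p)).toRingEquiv

/-- The blow-up of a two-dimensional regular local ring at the closed point is regular. -/
theorem isRegularLocalRing_stalk [IsRegularLocalRing A] (hA : ringKrullDim A = 2)
    (hb : BlowUp.IsBlowUp b (BlowUpLib.centre (IsLocalRing.maximalIdeal A))) (x : X) :
    IsRegularLocalRing (X.presheaf.stalk x) := by
  haveI := RegLoc6.isDomain_of_isRegularLocalRing A
  obtain ⟨s, t, hgen, hs, ht, hst, hts⟩ := exists_params A hA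
  obtain ⟨c⟩ := nonempty_charts b hb hgen
  have hsm : s ∈ IsLocalRing.maximalIdeal A := by rw [hgen]; exact Ideal.subset_span (by simp)
  have htm : t ∈ IsLocalRing.maximalIdeal A := by rw [hgen]; exact Ideal.subset_span (by simp)
  have key : ∀ (a : A) (φ : Spec (CommRingCat.of (BlowUp.affineAlgebra A (IsLocalRing.maximalIdeal A) a)) ⟶ X)
      [IsOpenImmersion φ] [IsRegularRing (BlowUp.affineAlgebra A (IsLocalRing.maximalIdeal A) a)]
      (z : Spec (CommRingCat.of (BlowUp.affineAlgebra A (IsLocalRing.maximalIdeal A) a))),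
      IsRegularLocalRing (X.presheaf.stalk (φ z)) := by
    intro a φ _ hR z
    haveI : IsRegularLocalRing
        ((Spec (CommRingCat.of (BlowUp.affineAlgebra A (IsLocalRing.maximalIdeal A) a))).presheaf.stalk z) :=
      stalk_regular _ z
    exact IsRegularLocalRing.of_ringEquiv (asIso (φ.stalkMap z)).commRingCatIsoToRingEquiv.symm
  haveI := c.hφs; haveI := c.hφt
  rcases (c.cover.ge (show x ∈ (⊤ : X.Opens) from trivial) : x ∈ c.φs.opensRange ⊔ c.φt.opensRange)
    with ⟨z, rfl⟩ | ⟨z, rfl⟩
  · haveI := isRegularRing_affineAlgebra hs hgen htm hst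
    exact key s c.φs z
  · haveI := isRegularRing_affineAlgebra ht (by rw [hgen, Set.pair_comm]) hsm hts
    exact key t c.φt z

end Groth.Agent.ResolveLib.BlowTwo
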